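import Cfsg.Agent.Lib.Lead.DegreeTwoP.Basic
import Cfsg.Agent.Lib.Char.GaloisConj
import Cfsg.Agent.Lib.Char.Galois

/-!
# The order bound from the exceptional characters of degree `p - 2`
-/

set_option autoImplicit false
set_option linter.unusedSectionVars false

namespace Cfsg.Agent.DegTwoP

open Cfsg Cfsg.Agent.Char
open scoped ComplexConjugate

universe u

variable {G : Type u} [Group G] [Fintype G] {p : ℕ} [Fact p.Prime] {P : Sylow p G}

/-- A character of degree `p - 1` with value `-1` on `P` away from one. -/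
structure Special (P : Sylow p G) (χ : IrrCharacter G) : Prop where
  deg : (χ : G → ℂ) 1 = (p : ℂ) - 1
  val : ∀ y ∈ nonOne P, (χ : G → ℂ) (y : G) = -1

section Dual

variable [Fintype (↥(P : Subgroup G) →* ℂˣ)]

theorem Special.mem_X (H : Hyp P) (hp : 3 < p) {χ : IrrCharacter G} (hχ : Special P χ) (E : Exc P) :
    χ ∈ E.X ∧ (χ : G → ℂ) ≠ fun _ => 1 := by
  classical
  obtain ⟨y₁, hy₁⟩ := H.exists_nonOne
  refine ⟨?_, fun e => ?_⟩
  · rcases E.cases H χ with h | ⟨i, rfl⟩ | h
    · exact h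
    · exfalso
      have h := E.sum_mu H i
      rw [Finset.sum_congr rfl hχ.val, Finset.sum_const, nsmul_eq_mul, H.card_nonOne] at h
      refine E.sign_ne hp (E.d + 1) ((Int.cast_injective (α := ℂ)) ?_)
      push_cast at h ⊢
      linear_combination -h
    · exfalso
      have := h y₁ hy₁
      rw [hχ.val y₁ hy₁] at this
      norm_num at this
  · have := hχ.val y₁ hy₁
    rw [e] at this
    norm_num at this

theorem Special.unique (H : Hyp P) (hp : 3 < p) {χ ψ : IrrCharacter G} (hχ : Special P χ)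
    (hψ : Special P ψ) : ψ = χ := by
  obtain ⟨E⟩ := H.exists_exc hp
  obtain ⟨h1, h2⟩ := hχ.mem_X H hp E
  obtain ⟨h3, h4⟩ := hψ.mem_X H hp E
  exact ((E.X_small H hp h1 h2).1 ψ h3).resolve_right h4

/-- The exceptional characters of degree `p - 2`. -/
theorem Special.exists_theta (H : Hyp P) (hp : 3 < p) {χ : IrrCharacter G} (hχ : Special P χ) :
    ∃ (r : ℕ) (rep : Fin r → (↥(P : Subgroup G) →* ℂˣ))
      (idx : (↥(P : Subgroup G) →* ℂˣ) → Fin r) (θ : Fin r → IrrCharacter G),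
      OrbitIndex 2 rep idx ∧
      (∀ i, ∀ g : G, ¬ p ∣ orderOf g → (θ i : G → ℂ) g = (χ : G → ℂ) g - 1) ∧
      ∀ i, ∀ y ∈ nonOne P, (θ i : G → ℂ) (y : G) = -orbSum (rep i) y := by
  classical
  obtain ⟨E⟩ := H.exists_exc hp
  obtain ⟨h1, h2⟩ := hχ.mem_X H hp E
  obtain ⟨hX, hd⟩ := E.X_small H hp h1 h2
  set one : IrrCharacter G := ⟨fun _ => 1, isIrrCharacter_one⟩ with hone
  have hne : one ≠ χ := fun e => h2 (congrArg Subtype.val e).symm
  have hXeq : E.X = {one, χ} := by
    refine Finset.Subset.antisymm (fun ψ hψ => ?_) (fun ψ hψ => ?_)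
    · rcases hX ψ hψ with e | e
      · rw [e]; simp
      · rw [show ψ = one from Subtype.ext e]; simp
    · rcases Finset.mem_insert.mp hψ with rfl | hψ
      · exact E.exc.one_mem
      · rw [Finset.mem_singleton.mp hψ]; exact h1
  obtain ⟨y₁, hy₁⟩ := H.exists_nonOne
  have haχ : E.a χ = -1 := by
    have := (E.exc.a_val χ h1 y₁ hy₁).symm.trans (hχ.val y₁ hy₁)
    exact_mod_cast this
  have hrel : ∀ i, ∀ g : G, ¬ p ∣ orderOf g →
      ((E.r : ℂ) * E.d - E.δ) * (E.μ i : G → ℂ) g = (χ : G → ℂ) g - 1 := by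
    intro i g hg
    have h := E.exc.rel i g hg
    rw [hXeq, Finset.sum_pair hne, haχ, show E.a one = 1 from E.exc.one_val] at h
    simp only [hone] at h
    push_cast at h
    linear_combination h
  have hnp : ¬ p ∣ orderOf (1 : G) := by simp [(Fact.out : p.Prime).ne_one]
  have hpos : ∀ i, ∀ c : ℤ, ((c : ℂ) * (E.μ i : G → ℂ) 1 = (χ : G → ℂ) 1 - 1) → c = 1 ∨ c = -1 →
      c = 1 := by
    intro i c hc hor
    rcases hor with e | e
    · exact e
    exfalso
    rw [e, char_one_eq_deg (irr_isCharacter (E.μ i).2), hχ.deg] at hc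
    have h3 : ((Char.deg (E.μ i : G → ℂ) + p : ℕ) : ℂ) = ((2 : ℕ) : ℂ) := by
      push_cast at hc ⊢
      linear_combination -hc
    have h4 : Char.deg (E.μ i : G → ℂ) + p = 2 := by exact_mod_cast h3
    omega
  have hr := E.two_le H hp
  rcases hd with hd0 | ⟨hd0, hr2⟩
  · have hδ : -E.δ = 1 := by
      refine hpos ⟨0, by omega⟩ _ ?_ ?_
      · rw [← hrel _ _ hnp, hd0]
        push_cast
        ring
      · rcases E.exc.sign with e | e <;> simp [e]
    refine ⟨E.r, E.rep, E.idx, E.μ, E.index, fun i g hg => ?_, fun i y hy => ?_⟩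
    · rw [← hrel i g hg, hd0, show E.δ = -1 by omega]
      push_cast
      ring
    · rw [E.exc.mu_val i y hy, hd0, show E.δ = -1 by omega]
      push_cast
      ring
  · have hr2' : (E.r : ℂ) = 2 := by rw [hr2]; norm_num
    have hδ : E.δ = 1 := by
      refine hpos ⟨0, by omega⟩ _ ?_ E.exc.sign
      rw [← hrel _ _ hnp, hd0, hr2']
      push_cast
      ring
    refine ⟨E.r, E.rep, E.idx, fun i => E.μ (Fin.rev i), E.index, fun i g hg => ?_,
      fun i y hy => ?_⟩
    · rw [← hrel (Fin.rev i) g hg, hd0, hr2', hδ]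
      push_cast
      ring
    · rw [E.exc.mu_val _ y hy, hd0, hδ]
      have hsum := H.frobSylow.sum_all_orbSum E.index (mem_nonOne.mp hy)
      have hni : i ≠ Fin.rev i := fun e => by
        have := congrArg Fin.val e
        rw [Fin.val_rev] at this
        have := i.isLt
        omega
      have huniv : (Finset.univ : Finset (Fin E.r)) = {i, Fin.rev i} :=
        (Finset.eq_of_subset_of_card_le (Finset.subset_univ _) (by
          rw [Finset.card_univ, Fintype.card_fin, Finset.card_pair hni, hr2])).symm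
      rw [huniv, Finset.sum_pair hni] at hsum
      push_cast
      linear_combination hsum

/-- The special character has integer values. -/
theorem Special.exists_int (H : Hyp P) (hp : 3 < p) {χ : IrrCharacter G} (hχ : Special P χ) (g : G) :
    ∃ z : ℤ, (χ : G → ℂ) g = z := by
  classical
  obtain ⟨hm, hgal⟩ := char_galois (irr_isCharacter χ.2) g
  have hfix : ∀ φ : cyc (Nat.card G) →ₐ[ℚ] ℂ, φ ⟨(χ : G → ℂ) g, hm⟩ = (χ : G → ℂ) g := by
    intro φ
    obtain ⟨k, hk, hkφ⟩ := exists_power_of_embedding Nat.card_pos.ne' φ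
    rw [hgal φ k hkφ]
    have hsp : Special P ⟨fun x => (χ : G → ℂ) (x ^ k), isIrrCharacter_pow χ.2 hk⟩ := by
      refine ⟨by simpa using hχ.deg, fun y hy => ?_⟩
      have hy' : y ^ k ∈ nonOne P := by
        refine mem_nonOne.mpr fun e => mem_nonOne.mp hy ?_
        rw [SubmonoidClass.coe_pow] at e
        exact (powCoprime_bijective (G := G) hk).1 (by simpa using e)
      have := hχ.val _ hy'
      rwa [SubmonoidClass.coe_pow] at this
    exact congrFun (congrArg Subtype.val (hχ.unique H hp hsp)) g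
  obtain ⟨q, hq⟩ := exists_rat_of_fixed Nat.card_pos.ne' hm hfix
  have hint := char_isIntegral (irr_isCharacter χ.2) g
  rw [hq, show ((q : ℚ) : ℂ) = algebraMap ℚ ℂ q from rfl,
    isIntegral_algebraMap_iff (algebraMap ℚ ℂ).injective] at hint
  obtain ⟨z, hz⟩ := IsIntegrallyClosed.isIntegral_iff.1 hint
  refine ⟨z, ?_⟩
  rw [hq, ← hz]
  simp

open scoped Classical in
/-- The square of an exceptional orbit sum contains an orbit sum. -/
theorem orb_square (H : Hyp P) (hp : 3 < p) {r : ℕ} {rep : Fin r → (↥(P : Subgroup G) →* ℂˣ)}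
    {idx : (↥(P : Subgroup G) →* ℂˣ) → Fin r} (hI : OrbitIndex 2 rep idx) (i : Fin r) :
    ∃ (k : Fin r) (N : ℕ), 2 ≤ N ∧
      ∑ y ∈ nonOne P, orbSum (rep i) y * orbSum (rep i) y * conj (orbSum (rep k) y) =
        (p : ℂ) * N - 8 := by
  set O := orbP (rep i) with hO
  have hne : rep i * rep i ≠ 1 := by
    intro e
    refine hI.rep_ne i (MonoidHom.ext fun y => ?_)
    have h2 : rep i (y * y) = 1 := by rw [map_mul, ← MonoidHom.mul_apply, e, MonoidHom.one_apply]
    have hodd : Odd (orderOf y) := by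
      obtain ⟨k, hk⟩ := FrobSylow.ppower (P := P) y
      rw [← Subgroup.orderOf_coe, hk]
      exact ((Fact.out : p.Prime).odd_of_ne_two (by omega)).pow
    obtain ⟨j, hj⟩ := hodd
    have hpy : y = (y * y) ^ (j + 1) := by
      conv_lhs => rw [← one_mul y, ← pow_orderOf_eq_one y, hj]
      rw [← pow_two, ← pow_mul, ← pow_succ]
      congr 1
    rw [hpy, map_pow, h2, one_pow, MonoidHom.one_apply]
  refine ⟨idx (rep i * rep i), ((O ×ˢ O).filter fun ab => ab.1 * ab.2 ∈ orbP (rep (idx (rep i * rep i)))).card, ?_, ?_⟩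
  · rw [← H.frobSylow.card_orbP (hI.rep_ne i), ← hO]
    refine (le_of_eq (Finset.card_image_of_injective O (f := fun a => (a, a))
      fun a b e => (Prod.mk.injEq _ _ _ _ ▸ e).1).symm).trans (Finset.card_le_card ?_)
    intro ab hab
    obtain ⟨a, ha, rfl⟩ := Finset.mem_image.mp hab
    refine Finset.mem_filter.mpr ⟨Finset.mem_product.mpr ⟨ha, ha⟩, ?_⟩
    have h1 := hI.mem _ hne
    rw [← orbP_eq_of_mem h1, mem_orbP]
    obtain ⟨n, hn⟩ := mem_orbP.mp ha
    exact ⟨n, by rw [← hn]; exact MonoidHom.ext fun y => rfl⟩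
  · have hone : ∀ j, orbSum (rep j) (1 : ↥(P : Subgroup G)) = 2 := fun j => by
      rw [H.frobSylow.orbSum_one (hI.rep_ne j)]; norm_num
    rw [sum_nonOne', hone, hone, map_ofNat]
    congr 1
    · set k := idx (rep i * rep i) with hk
      have e0 : ∀ y : ↥(P : Subgroup G),
          orbSum (rep i) y * orbSum (rep i) y * conj (orbSum (rep k) y) =
          ∑ ab ∈ O ×ˢ O, ∑ c ∈ orbP (rep k),
            (((ab.1 * ab.2) y : ℂˣ) : ℂ) * conj ((c y : ℂˣ) : ℂ) := by
        intro y
        rw [Finset.sum_product, orbSum, orbSum, map_sum, Finset.sum_mul_sum, Finset.sum_mul, ← hO]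
        refine Finset.sum_congr rfl fun a _ => ?_
        rw [Finset.sum_mul]
        refine Finset.sum_congr rfl fun b _ => ?_
        rw [Finset.mul_sum]
        exact Finset.sum_congr rfl fun c _ => by rw [MonoidHom.mul_apply, Units.val_mul]
      rw [Finset.sum_congr rfl fun y _ => e0 y, Finset.sum_comm, Finset.card_filter, Nat.cast_sum,
        Finset.mul_sum]
      refine Finset.sum_congr rfl fun ab _ => ?_
      rw [Finset.sum_comm, Finset.sum_congr rfl fun c _ => FrobSylow.sum_linear_mul (ab.1 * ab.2) c,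
        Finset.sum_ite_eq, H.card]
      simp
    · norm_num

end Dual

open scoped Classical in
/-- The order bound, and the values in the case of equality. -/
theorem bound (H : Hyp P) (hp : 3 < p) {χ : IrrCharacter G} (hχ : Special P χ)
    (hker : ∀ g : G, g ≠ 1 → (χ : G → ℂ) g ≠ (χ : G → ℂ) 1) :
    Nat.card G ≤ p * (p - 1) * (p - 2) ∧ (Nat.card G = p * (p - 1) * (p - 2) →
      ∀ g : G, g ≠ 1 → ¬ p ∣ orderOf g → (χ : G → ℂ) g = 0 ∨ (χ : G → ℂ) g = 1 ∨
        (χ : G → ℂ) g = (p : ℂ) - 2) := by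
  haveI := H.frobSylow.finite_dual.1
  haveI : Fintype (↥(P : Subgroup G) →* ℂˣ) := Fintype.ofFinite _
  obtain ⟨r, rep, idx, θ, hI, hreg, hθ⟩ := hχ.exists_theta H hp
  choose z hz using fun g => hχ.exists_int H hp g
  set t : G → ℤ := fun g => z g - 1 with ht
  have hθt : ∀ i, ∀ g : G, ¬ p ∣ orderOf g → (θ i : G → ℂ) g = (t g : ℂ) := fun i g hg => by
    rw [hreg i g hg, hz g, ht]
    push_cast
    ring
  have hr0 : 0 < r := by
    have h := hI.count
    rw [H.card] at h
    omega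
  set i₀ : Fin r := ⟨0, hr0⟩
  obtain ⟨k, N, hN, hNsum⟩ := orb_square H hp hI i₀
  set q : ℂ := (p : ℂ)
  have hcl : ∀ j, IsClassFunction G ((θ j : G → ℂ)) := fun j =>
    isClassFunction_character (irr_isCharacter (θ j).2)
  have horb : ∀ j, ∑ y ∈ nonOne P, orbSum (rep j) y = -2 := fun j => by
    rw [sum_nonOne', H.frobSylow.sum_orbSum (hI.rep_ne j), H.frobSylow.orbSum_one (hI.rep_ne j)]
    norm_num
  set R := Finset.univ.filter fun g : G => ¬ p ∣ orderOf g with hR
  have hsplit : ∀ F : G → ℂ, ∑ g : G, F g =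
      (∑ g : G with p ∣ orderOf g, F g) + ∑ g ∈ R, F g := fun F =>
    (Finset.sum_filter_add_sum_filter_not _ _ _).symm
  have hGne : (Nat.card G : ℂ) ≠ 0 := Nat.cast_ne_zero.mpr Nat.card_pos.ne'
  have hinner : ∀ f₁ f₂ : G → ℂ, ∑ g, f₁ g * conj (f₂ g) = (Nat.card G : ℂ) * classInner f₁ f₂ :=
    fun f₁ f₂ => by rw [classInner, ← mul_assoc, mul_inv_cancel₀ hGne, one_mul]
  -- first moment
  have h1 : q * ((∑ g ∈ R, t g : ℤ) : ℂ) = -(Nat.card G : ℂ) := by
    have e := hinner (θ i₀ : G → ℂ) (fun _ => 1)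
    rw [irr_orth (θ i₀).2 isIrrCharacter_one, if_neg, mul_zero, hsplit] at e
    · simp only [map_one, mul_one] at e
      have s := H.sum_sing (hcl i₀)
      rw [Finset.sum_congr rfl fun y hy => hθ i₀ y hy, Finset.sum_neg_distrib, horb] at s
      rw [Finset.sum_congr (rfl : R = R) fun g hg => hθt i₀ g (Finset.mem_filter.mp hg).2] at e
      push_cast
      linear_combination q * e - (1 / 2 : ℂ) * s
    · intro e'
      obtain ⟨y, hy⟩ := H.exists_nonOne
      have := horb i₀
      rw [Finset.sum_congr rfl (g := fun _ => (-1 : ℂ)) fun y hy => by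
        rw [← neg_inj, neg_neg, ← hθ i₀ y hy, e'], Finset.sum_const, nsmul_eq_mul,
        H.card_nonOne] at this
      have : ((p : ℕ) : ℂ) = ((3 : ℕ) : ℂ) := by
        push_cast
        linear_combination -this
      have : p = 3 := by exact_mod_cast this
      omega
  -- second moment
  have h2 : q * ((∑ g ∈ R, t g ^ 2 : ℤ) : ℂ) = 2 * (Nat.card G : ℂ) := by
    have e := hinner (θ i₀ : G → ℂ) (θ i₀ : G → ℂ)
    rw [irr_self (θ i₀).2, mul_one, hsplit] at e
    have s := H.sum_sing (F := fun g => (θ i₀ : G → ℂ) g * conj ((θ i₀ : G → ℂ) g))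
      (fun g w => by simp only [hcl i₀ g w])
    rw [Finset.sum_congr rfl (g := fun y => orbSum (rep i₀) y * conj (orbSum (rep i₀) y))
      (fun y hy => by rw [hθ i₀ y hy, map_neg, neg_mul_neg])] at s
    rw [sum_nonOne', H.frobSylow.sum_orbSum_mul, H.frobSylow.orbP_inter hI, if_pos rfl, H.card,
      H.frobSylow.orbSum_one (hI.rep_ne i₀), map_natCast] at s
    rw [Finset.sum_congr (rfl : R = R) (g := fun g => ((t g ^ 2 : ℤ) : ℂ)) fun g hg => by
      rw [hθt i₀ g (Finset.mem_filter.mp hg).2, map_intCast]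
      push_cast
      ring] at e
    push_cast at e s ⊢
    linear_combination q * e - (1 / 2 : ℂ) * s
  -- third moment
  obtain ⟨n, hn⟩ : ∃ n : ℕ, classInner (fun g => (θ i₀ : G → ℂ) g * (θ i₀ : G → ℂ) g)
      (θ k : G → ℂ) = n :=
    classInner_natCast (isCharacter_mul (irr_isCharacter (θ i₀).2) (irr_isCharacter (θ i₀).2))
      (irr_isCharacter (θ k).2)
  have h3 : 2 * q * ((∑ g ∈ R, t g ^ 3 : ℤ) : ℂ) =
      (Nat.card G : ℂ) * (2 * q * n + q * N - 8) := by
    have e := hinner (fun g => (θ i₀ : G → ℂ) g * (θ i₀ : G → ℂ) g) (θ k : G → ℂ)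
    rw [hn, hsplit] at e
    have s := H.sum_sing
      (F := fun g => (θ i₀ : G → ℂ) g * (θ i₀ : G → ℂ) g * conj ((θ k : G → ℂ) g))
      (fun g w => by simp only [hcl i₀ g w, hcl k g w])
    rw [Finset.sum_congr rfl (g := fun y => -(orbSum (rep i₀) y * orbSum (rep i₀) y *
      conj (orbSum (rep k) y))) (fun y hy => by rw [hθ i₀ y hy, hθ k y hy, map_neg]; ring),
      Finset.sum_neg_distrib, hNsum] at s
    rw [Finset.sum_congr (rfl : R = R) (g := fun g => ((t g ^ 3 : ℤ) : ℂ)) fun g hg => by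
      rw [hθt i₀ g (Finset.mem_filter.mp hg).2, hθt k g (Finset.mem_filter.mp hg).2, map_intCast]
      push_cast
      ring] at e
    push_cast at e s ⊢
    linear_combination 2 * q * e - s
  set S1 := ∑ g ∈ R, t g with hS1
  set S2 := ∑ g ∈ R, t g ^ 2 with hS2
  set S3 := ∑ g ∈ R, t g ^ 3 with hS3
  have h1' : (p : ℤ) * S1 = -(Nat.card G : ℤ) := by
    have h : (((p : ℤ) * S1 : ℤ) : ℂ) = ((-(Nat.card G : ℤ) : ℤ) : ℂ) := by push_cast; exact h1
    exact_mod_cast h
  have h2' : (p : ℤ) * S2 = 2 * (Nat.card G : ℤ) := by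
    have h : (((p : ℤ) * S2 : ℤ) : ℂ) = ((2 * (Nat.card G : ℤ) : ℤ) : ℂ) := by push_cast; exact h2
    exact_mod_cast h
  have h3' : 2 * (p : ℤ) * S3 = (Nat.card G : ℤ) * (2 * p * n + p * N - 8) := by
    have h : ((2 * (p : ℤ) * S3 : ℤ) : ℂ) =
        (((Nat.card G : ℤ) * (2 * p * n + p * N - 8) : ℤ) : ℂ) := by push_cast; exact h3
    exact_mod_cast h
  -- the values lie below `p - 2`
  have hone : (1 : G) ∈ R := by simp [hR, (Fact.out : p.Prime).ne_one]
  have ht1 : t 1 = (p : ℤ) - 2 := by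
    have h : ((z 1 : ℤ) : ℂ) = (((p : ℤ) - 1 : ℤ) : ℂ) := by
      push_cast
      rw [← hz 1, hχ.deg]
    have : z 1 = (p : ℤ) - 1 := by exact_mod_cast h
    simp only [ht, this]
    ring
  have hle : ∀ g ∈ R.erase 1, (t g - ((p : ℤ) - 3)) * (t g * (t g + 1)) ≤ 0 := by
    intro g hg
    obtain ⟨hg1, hgR⟩ := Finset.mem_erase.mp hg
    have hb : (z g : ℝ) ≤ (p : ℝ) - 1 := by
      have h := char_norm_le (irr_isCharacter χ.2) g
      rw [hz g, hχ.deg, Complex.norm_intCast] at h
      simp at h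
      exact (le_abs_self _).trans h
    have hb' : z g ≤ (p : ℤ) - 1 := by
      have : ((z g : ℤ) : ℝ) ≤ (((p : ℤ) - 1 : ℤ) : ℝ) := by push_cast; exact hb
      exact_mod_cast this
    have hne : z g ≠ (p : ℤ) - 1 := fun e => hker g hg1 (by rw [hz g, hχ.deg, e]; push_cast; rfl)
    refine mul_nonpos_of_nonpos_of_nonneg (by simp only [ht]; omega) ?_
    rcases le_or_gt 0 (t g) with h | h
    · exact mul_nonneg h (by omega)
    · exact mul_nonneg_of_nonpos_of_nonpos h.le (by omega)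
  have hsum : ∑ g ∈ R, (t g - ((p : ℤ) - 3)) * (t g * (t g + 1)) =
      S3 - ((p : ℤ) - 4) * S2 - ((p : ℤ) - 3) * S1 := by
    simp only [hS1, hS2, hS3, Finset.mul_sum, ← Finset.sum_sub_distrib]
    exact Finset.sum_congr rfl fun g _ => by ring
  rw [← Finset.add_sum_erase _ _ hone, ht1] at hsum
  have hp0 : (0 : ℤ) < p := by omega
  have hrest : (Nat.card G : ℤ) - (p : ℤ) * (((p : ℤ) - 1) * ((p : ℤ) - 2)) ≤
      (p : ℤ) * ∑ g ∈ R.erase 1, (t g - ((p : ℤ) - 3)) * (t g * (t g + 1)) := by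
    have hG0 : (0 : ℤ) ≤ Nat.card G := by positivity
    have hN' : (2 : ℤ) ≤ N := by exact_mod_cast hN
    nlinarith [mul_nonneg hG0 (mul_nonneg hp0.le (Nat.cast_nonneg n : (0 : ℤ) ≤ n)),
      mul_nonneg hG0 (mul_nonneg hp0.le (by linarith : (0 : ℤ) ≤ (N : ℤ) - 2))]
  have e : ((p * (p - 1) * (p - 2) : ℕ) : ℤ) = (p : ℤ) * (((p : ℤ) - 1) * ((p : ℤ) - 2)) := by
    push_cast [show 1 ≤ p by omega, show 2 ≤ p by omega]
    ring
  have hnp := Finset.sum_nonpos hle
  refine ⟨?_, fun heq g hg1 hgp => ?_⟩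
  · have : (Nat.card G : ℤ) ≤ ((p * (p - 1) * (p - 2) : ℕ) : ℤ) := by
      rw [e]
      nlinarith
    exact_mod_cast this
  · have heq' : (Nat.card G : ℤ) = (p : ℤ) * (((p : ℤ) - 1) * ((p : ℤ) - 2)) := by
      rw [← e, heq]
    have h0 : ∑ g ∈ R.erase 1, (t g - ((p : ℤ) - 3)) * (t g * (t g + 1)) = 0 := by
      nlinarith
    have hg : g ∈ R.erase 1 := Finset.mem_erase.mpr ⟨hg1, by simp [hR, hgp]⟩
    have := (Finset.sum_eq_zero_iff_of_nonpos hle).mp h0 g hg
    rcases mul_eq_zero.mp this with h | h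
    · refine Or.inr (Or.inr ?_)
      rw [hz g, show z g = (p : ℤ) - 2 by simp only [ht] at h; omega]
      push_cast
      rfl
    · rcases mul_eq_zero.mp h with h | h
      · refine Or.inr (Or.inl ?_)
        rw [hz g, show z g = 1 by simp only [ht] at h; omega]
        simp
      · refine Or.inl ?_
        rw [hz g, show z g = 0 by simp only [ht] at h; omega]
        simp

/-- The order bound. -/
theorem card_le (H : Hyp P) (hp : 3 < p) {χ : IrrCharacter G} (hχ : Special P χ)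
    (hker : ∀ g : G, g ≠ 1 → (χ : G → ℂ) g ≠ (χ : G → ℂ) 1) :
    Nat.card G ≤ p * (p - 1) * (p - 2) :=
  (bound H hp hχ hker).1

end Cfsg.Agent.DegTwoP
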