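import Cfsg.Agent.Lib.Char.FrobSylowExceptional
import Cfsg.Agent.Lib.Char.PrimeSylowPrincipal
import Cfsg.Agent.Lib.Char.LocalRing

/-!
# A self-centralizing Sylow subgroup of prime order with dihedral normalizer
-/

set_option autoImplicit false
set_option linter.unusedSectionVars false

namespace Cfsg.Agent.DegTwoP

open Cfsg Cfsg.Agent.Char
open scoped ComplexConjugate

universe u

variable {G : Type u} [Group G] [Fintype G] {p : ℕ} [Fact p.Prime] {P : Sylow p G}

/-- The standing hypotheses. -/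
structure Hyp (P : Sylow p G) : Prop where
  card : Nat.card P = p
  self : Subgroup.centralizer ((P : Subgroup G) : Set G) = (P : Subgroup G)
  two : (Subgroup.centralizer ((P : Subgroup G) : Set G)).relIndex
    (Subgroup.normalizer ((P : Subgroup G) : Set G)) = 2

theorem Hyp.frobSylow (H : Hyp P) : FrobSylow P 2 := H.two ▸ frobSylow_of_prime H.card

theorem Hyp.centralizer (H : Hyp P) {y : ↥(P : Subgroup G)} (hy : (y : G) ≠ 1) :
    Subgroup.centralizer ({(y : G)} : Set G) = (P : Subgroup G) := by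
  rw [← centralizer_zpowers_eq, eq_zpowers_of_prime_sylow H.card y.2 hy, H.self]

open scoped Classical in
/-- A sum over the non-trivial elements of `P`. -/
theorem sum_nonOne' (F : ↥(P : Subgroup G) → ℂ) :
    ∑ y ∈ nonOne P, F y = ∑ y : ↥(P : Subgroup G), F y - F 1 := by
  have e : nonOne P = Finset.univ.erase 1 := by
    ext y
    simp [mem_nonOne]
  rw [e, Finset.sum_erase_eq_sub (Finset.mem_univ _)]

open scoped Classical in
theorem Hyp.card_nonOne (H : Hyp P) : ((nonOne P).card : ℂ) = (p : ℂ) - 1 := by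
  rw [show ((nonOne P).card : ℂ) = ∑ y ∈ nonOne P, (1 : ℂ) by simp, sum_nonOne']
  simp [← Nat.card_eq_fintype_card, H.card]

theorem Hyp.exists_nonOne (H : Hyp P) : ∃ y, y ∈ nonOne P := by
  by_contra hno
  push Not at hno
  have h := H.card_nonOne
  rw [Finset.eq_empty_of_forall_notMem hno, Finset.card_empty, Nat.cast_zero] at h
  have : (p : ℂ) = 1 := by linear_combination -h
  exact (Fact.out : p.Prime).ne_one (by exact_mod_cast this)

open scoped Classical in
/-- A class function summed over the `p`-singular elements. -/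
theorem Hyp.sum_sing (H : Hyp P) {F : G → ℂ} (hF : IsClassFunction G F) :
    2 * (p : ℂ) * ∑ g : G with p ∣ orderOf g, F g =
      (Nat.card G : ℂ) * ∑ y ∈ nonOne P, F (y : G) := by
  have h := H.frobSylow.sum_singular_const hF fun y hy v hv => by
    have hvP : (v : G) ∈ (P : Subgroup G) := (SetLike.ext_iff.mp (H.centralizer hy) _).mp v.2
    obtain ⟨k, hk⟩ := FrobSylow.ppower (P := P) ⟨v, hvP⟩
    have hk' : orderOf (v : G) = p ^ k := hk
    rw [← Subgroup.orderOf_coe] at hv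
    rw [hk'] at hv
    rcases Nat.eq_zero_or_pos k with rfl | hk0
    · rw [pow_zero] at hk'
      rw [orderOf_eq_one_iff.mp hk', mul_one]
    · exact absurd (dvd_pow_self p hk0.ne') hv
  rw [H.card] at h
  push_cast at h
  linear_combination h

open scoped Classical in
theorem Hyp.sum_char (H : Hyp P) (χ : IrrCharacter G) :
    ∃ n : ℕ, (χ : G → ℂ) 1 + ∑ y ∈ nonOne P, (χ : G → ℂ) (y : G) = (p : ℂ) * n := by
  obtain ⟨n, hn⟩ := exists_sum_on_sylow (P := P) χ
  refine ⟨n, ?_⟩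
  rw [sum_nonOne' (P := P) (fun y => (χ : G → ℂ) (y : G)), hn, H.card, OneMemClass.coe_one]
  ring

open scoped Classical in
/-- Outside the principal block characters vanish on `P` away from one. -/
theorem Hyp.vanish (H : Hyp P) {M : Ideal AlgInt} (hM : IsPModular p M) {χ : IrrCharacter G}
    (hχ : χ ∉ principalBlock M G) {y : ↥(P : Subgroup G)} (hy : (y : G) ≠ 1) :
    (χ : G → ℂ) (y : G) = 0 := by
  have hall := second_orth (y : G) (y : G)
  rw [if_pos (IsConj.refl _)] at hall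
  have hcl : (Nat.card G : ℂ) / Nat.card {x : G // IsConj (y : G) x} = (Nat.card P : ℂ) := by
    have e := card_conjClass_mul_centralizer (y : G)
    rw [H.centralizer hy] at e
    rw [← e, Nat.cast_mul, mul_comm, mul_div_assoc,
      div_self (Nat.cast_ne_zero.mpr (card_conjClass_ne_zero _)), mul_one]
  rw [hcl, ← Finset.sum_filter_add_sum_filter_not _ (fun ψ => ψ ∈ principalBlock M G),
    FrobSylow.sum_norm_principal hM H.frobSylow hy, add_eq_left] at hall
  simp only [Complex.mul_conj] at hall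
  rw [← Complex.ofReal_sum, Complex.ofReal_eq_zero,
    Finset.sum_eq_zero_iff_of_nonneg fun ψ _ => Complex.normSq_nonneg _] at hall
  exact Complex.normSq_eq_zero.mp (hall χ (Finset.mem_filter.mpr ⟨Finset.mem_univ _, hχ⟩))

/-- The exceptional data. -/
structure Exc (P : Sylow p G) [Fintype (↥(P : Subgroup G) →* ℂˣ)] where
  M : Ideal AlgInt
  modular : IsPModular p M
  r : ℕ
  rep : Fin r → (↥(P : Subgroup G) →* ℂˣ)
  idx : (↥(P : Subgroup G) →* ℂˣ) → Fin r
  index : OrbitIndex 2 rep idx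
  X : Finset (IrrCharacter G)
  μ : Fin r → IrrCharacter G
  a : IrrCharacter G → ℤ
  d : ℤ
  δ : ℤ
  exc : PrincipalExc M 2 rep X μ a d δ

theorem Hyp.exists_exc (H : Hyp P) (hp : 3 < p) [Fintype (↥(P : Subgroup G) →* ℂˣ)] :
    Nonempty (Exc P) := by
  obtain ⟨M, hM⟩ := exists_pModular (p := p) Fact.out
  obtain ⟨r, rep, idx, hr0, hcount, hrep, hidx, hmem, hconst⟩ := H.frobSylow.exists_orbit_index
  have hI : OrbitIndex 2 rep idx := ⟨hcount, hrep, hidx, hmem, hconst⟩
  rw [H.card] at hcount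
  obtain ⟨X, μ, a, d, δ, hX⟩ :=
    H.frobSylow.exists_principal_exc hM two_ne_zero (by omega) hI
  exact ⟨⟨M, hM, r, rep, idx, hI, X, μ, a, d, δ, hX⟩⟩

section Exc

variable [Fintype (↥(P : Subgroup G) →* ℂˣ)]

theorem Exc.count (H : Hyp P) (E : Exc P) : 2 * E.r + 1 = p := by
  have h := E.index.count
  rw [H.card] at h
  omega

theorem Exc.two_le (H : Hyp P) (hp : 3 < p) (E : Exc P) : 2 ≤ E.r := by
  have := E.count H
  omega

theorem Exc.cases (H : Hyp P) (E : Exc P) (χ : IrrCharacter G) :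
    χ ∈ E.X ∨ (∃ i, E.μ i = χ) ∨ ∀ y ∈ nonOne P, (χ : G → ℂ) (y : G) = 0 := by
  by_cases h : χ ∈ principalBlock E.M G
  · rcases (E.exc.mem_iff χ).mp h with h' | h'
    · exact Or.inl h'
    · exact Or.inr (Or.inl h')
  · exact Or.inr (Or.inr fun y hy => H.vanish E.modular h (mem_nonOne.mp hy))

theorem sum_orb (H : Hyp P) (E : Exc P) (i : Fin E.r) :
    ∑ y ∈ nonOne P, orbSum (E.rep i) y = -2 := by
  rw [FrobSylow.sum_nonOne, H.frobSylow.sum_orbSum (E.index.rep_ne i),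
    H.frobSylow.orbSum_one (E.index.rep_ne i)]
  norm_num

theorem Exc.sum_mu (H : Hyp P) (E : Exc P) (i : Fin E.r) :
    ∑ y ∈ nonOne P, (E.μ i : G → ℂ) (y : G) = ((((p : ℤ) - 1) * E.d - 2 * E.δ : ℤ) : ℂ) := by
  rw [Finset.sum_congr rfl fun y hy => E.exc.mu_val i y hy, Finset.sum_add_distrib,
    Finset.sum_const, nsmul_eq_mul, ← Finset.mul_sum, sum_orb H E i, H.card_nonOne]
  push_cast
  ring

theorem Exc.X_small (H : Hyp P) (hp : 3 < p) (E : Exc P) {u : IrrCharacter G} (hu : u ∈ E.X)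
    (hu1 : (u : G → ℂ) ≠ fun _ => 1) :
    (∀ χ ∈ E.X, χ = u ∨ (χ : G → ℂ) = fun _ => 1) ∧
      (E.d = 0 ∨ (E.d = E.δ ∧ E.r = 2)) := by
  classical
  have hn := E.exc.norm
  have hr : (2 : ℤ) ≤ E.r := by exact_mod_cast E.two_le H hp
  have hpos : ∀ χ ∈ E.X, (1 : ℤ) ≤ E.a χ ^ 2 := fun χ hχ => by
    have := sq_pos_of_ne_zero (E.exc.a_ne χ hχ)
    omega
  have hne : (⟨fun _ => 1, isIrrCharacter_one⟩ : IrrCharacter G) ≠ u := fun e =>
    hu1 (congrArg Subtype.val e).symm
  have hsub : ({⟨fun _ => 1, isIrrCharacter_one⟩, u} : Finset (IrrCharacter G)) ⊆ E.X := by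
    intro χ hχ
    rcases Finset.mem_insert.mp hχ with rfl | hχ
    · exact E.exc.one_mem
    · rw [Finset.mem_singleton.mp hχ]; exact hu
  have hcard : (E.X.card : ℤ) ≤ ∑ χ ∈ E.X, E.a χ ^ 2 := by
    rw [Finset.card_eq_sum_ones, Nat.cast_sum]
    exact Finset.sum_le_sum fun χ hχ => by simpa using hpos χ hχ
  have h2 : 2 ≤ E.X.card := by
    refine le_trans ?_ (Finset.card_le_card hsub)
    rw [Finset.card_pair hne]
  have h2' : (2 : ℤ) ≤ E.X.card := by exact_mod_cast h2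
  have hd : E.d = 0 ∨ (E.d = E.δ ∧ E.r = 2) := by
    by_cases h0 : E.d = 0
    · exact Or.inl h0
    refine Or.inr ?_
    have hd2 : (1 : ℤ) ≤ E.d ^ 2 := by
      have := sq_pos_of_ne_zero h0
      omega
    have h3 : ((E.r : ℤ) - 1) * E.d ^ 2 ≤ 1 := by
      simp only [Nat.cast_ofNat] at hn
      linarith [sq_nonneg (E.d - E.δ)]
    have h4 : (E.r : ℤ) = 2 := by nlinarith
    refine ⟨?_, by exact_mod_cast h4⟩
    rw [h4] at hn
    have h5 : (E.d - E.δ) ^ 2 = 0 := by
      simp only [Nat.cast_ofNat] at hn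
      linarith [sq_nonneg (E.d - E.δ)]
    exact sub_eq_zero.mp (pow_eq_zero_iff two_ne_zero |>.mp h5)
  refine ⟨fun χ hχ => ?_, hd⟩
  have h3 : (E.X.card : ℤ) ≤ 2 := by
    rcases hd with h0 | ⟨h0, hr2⟩
    · rw [h0] at hn
      rcases E.exc.sign with e | e <;> rw [e] at hn <;> norm_num at hn <;> omega
    · rw [h0, hr2] at hn
      rcases E.exc.sign with e | e <;> rw [e] at hn <;> norm_num at hn <;> omega
  have hX : E.X = {⟨fun _ => 1, isIrrCharacter_one⟩, u} :=
    (Finset.eq_of_subset_of_card_le hsub (by rw [Finset.card_pair hne]; omega)).symm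
  rw [hX] at hχ
  rcases Finset.mem_insert.mp hχ with rfl | hχ
  · exact Or.inr rfl
  · exact Or.inl (Finset.mem_singleton.mp hχ)

theorem Exc.sign_ne (hp : 3 < p) (E : Exc P) (k : ℤ) : ((p : ℤ) - 1) * k ≠ 2 * E.δ := by
  intro hk
  have hp' : (4 : ℤ) ≤ (p : ℤ) - 1 := by
    have : p ≠ 4 := fun e => by
      have := (Fact.out : p.Prime)
      rw [e] at this
      norm_num at this
    omega
  rcases eq_or_ne k 0 with rfl | hk0
  · rcases E.exc.sign with e | e <;> rw [e] at hk <;> simp at hk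
  · have h1 : (4 : ℤ) ≤ ((p : ℤ) - 1) * |k| := by nlinarith [Int.one_le_abs hk0]
    have h2 : ((p : ℤ) - 1) * |k| = |((p : ℤ) - 1) * k| := by
      rw [abs_mul, abs_of_nonneg (by omega : (0 : ℤ) ≤ (p : ℤ) - 1)]
    rw [h2, hk] at h1
    rcases E.exc.sign with e | e <;> rw [e] at h1 <;> norm_num at h1

end Exc

/-- Two nonprincipal characters summing to `-1` on `P` away from one, of degrees summing to
`2p - 1`: one has degree `p - 1` and value `-1` there. -/
theorem exists_degree (H : Hyp P) (hp : 3 < p) {u v : IrrCharacter G} (huv : u ≠ v)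
    (hu : (u : G → ℂ) ≠ fun _ => 1) (hv : (v : G → ℂ) ≠ fun _ => 1)
    (hval : ∀ y ∈ nonOne P, (u : G → ℂ) (y : G) + (v : G → ℂ) (y : G) = -1)
    (hdeg : (u : G → ℂ) 1 + (v : G → ℂ) 1 = 2 * (p : ℂ) - 1) :
    ∃ χ : IrrCharacter G, (χ = u ∨ χ = v) ∧ (χ : G → ℂ) 1 = (p : ℂ) - 1 ∧
      ∀ y ∈ nonOne P, (χ : G → ℂ) (y : G) = -1 := by
  classical
  haveI := H.frobSylow.finite_dual.1
  haveI : Fintype (↥(P : Subgroup G) →* ℂˣ) := Fintype.ofFinite _
  obtain ⟨E⟩ := H.exists_exc hp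
  have hS : ∑ y ∈ nonOne P, (u : G → ℂ) (y : G) + ∑ y ∈ nonOne P, (v : G → ℂ) (y : G) =
      ((-((p : ℤ) - 1) : ℤ) : ℂ) := by
    rw [← Finset.sum_add_distrib, Finset.sum_congr rfl hval, Finset.sum_const, nsmul_eq_mul,
      H.card_nonOne]
    push_cast
    ring
  -- the sum of the values of one character
  have hsum : ∀ χ : IrrCharacter G, ∃ k : ℤ, ((¬ ∃ i, E.μ i = χ) →
        ∑ y ∈ nonOne P, (χ : G → ℂ) (y : G) = ((((p : ℤ) - 1) * k : ℤ) : ℂ)) ∧
      ((∃ i, E.μ i = χ) →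
        ∑ y ∈ nonOne P, (χ : G → ℂ) (y : G) = ((((p : ℤ) - 1) * k - 2 * E.δ : ℤ) : ℂ)) := by
    intro χ
    rcases E.cases H χ with h | ⟨i, rfl⟩ | h
    · refine ⟨E.a χ, fun _ => ?_, fun ⟨i, hi⟩ => absurd (hi ▸ h) (E.exc.notMem i)⟩
      rw [Finset.sum_congr rfl fun y hy => E.exc.a_val χ h y hy, Finset.sum_const, nsmul_eq_mul,
        H.card_nonOne]
      push_cast
      ring
    · exact ⟨E.d, fun h => absurd ⟨i, rfl⟩ h, fun _ => E.sum_mu H i⟩
    · by_cases hμ : ∃ i, E.μ i = χ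
      · obtain ⟨i, rfl⟩ := hμ
        exact ⟨E.d, fun h => absurd ⟨i, rfl⟩ h, fun _ => E.sum_mu H i⟩
      · refine ⟨0, fun _ => ?_, fun h' => absurd h' hμ⟩
        rw [Finset.sum_eq_zero h]
        simp
  have hnd : ∀ k : ℤ, ((p : ℤ) - 1) * k ≠ 2 * E.δ := E.sign_ne hp
  -- neither is exceptional
  have hnμ : (¬ ∃ i, E.μ i = u) ∧ ¬ ∃ i, E.μ i = v := by
    obtain ⟨k, hk, hk'⟩ := hsum u
    obtain ⟨l, hl, hl'⟩ := hsum v
    by_cases a : ∃ i, E.μ i = u <;> by_cases b : ∃ i, E.μ i = v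
    · exfalso
      obtain ⟨i, rfl⟩ := a
      obtain ⟨j, rfl⟩ := b
      rw [E.exc.reg i j 1 (by simp [(Fact.out : p.Prime).ne_one])] at hdeg
      rw [char_one_eq_deg (irr_isCharacter (E.μ j).2)] at hdeg
      have h2 : (2 * deg (E.μ j : G → ℂ) + 1 : ℕ) = 2 * p := by
        have : ((2 * deg (E.μ j : G → ℂ) + 1 : ℕ) : ℂ) = ((2 * p : ℕ) : ℂ) := by
          push_cast
          linear_combination hdeg
        exact_mod_cast this
      omega
    · exfalso
      rw [hk' a, hl b] at hS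
      exact hnd (k + l + 1) (by
        rw [← Int.cast_add] at hS
        linear_combination Int.cast_injective hS)
    · exfalso
      rw [hk a, hl' b] at hS
      exact hnd (k + l + 1) (by
        rw [← Int.cast_add] at hS
        linear_combination Int.cast_injective hS)
    · exact ⟨a, b⟩
  have hcl : ∀ χ : IrrCharacter G, (¬ ∃ i, E.μ i = χ) →
      χ ∈ E.X ∨ ∀ y ∈ nonOne P, (χ : G → ℂ) (y : G) = 0 := fun χ h => by
    rcases E.cases H χ with h' | h' | h'
    · exact Or.inl h'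
    · exact absurd h' h
    · exact Or.inr h'
  obtain ⟨y₁, hy₁⟩ := H.exists_nonOne
  -- exactly one lies in `X`
  obtain ⟨χ, ψ, hor, hχX, hψ0, hsum'⟩ : ∃ χ ψ : IrrCharacter G, (χ = u ∨ χ = v) ∧ χ ∈ E.X ∧
      (∀ y ∈ nonOne P, (ψ : G → ℂ) (y : G) = 0) ∧
      (∀ y : G, (χ : G → ℂ) y + (ψ : G → ℂ) y = (u : G → ℂ) y + (v : G → ℂ) y) := by
    rcases hcl u hnμ.1 with a | a <;> rcases hcl v hnμ.2 with b | b
    · rcases (E.X_small H hp a hu).1 v b with e | e
      · exact absurd e.symm huv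
      · exact absurd e hv
    · exact ⟨u, v, Or.inl rfl, a, b, fun _ => rfl⟩
    · exact ⟨v, u, Or.inr rfl, b, a, fun _ => add_comm _ _⟩
    · have := hval y₁ hy₁
      rw [a y₁ hy₁, b y₁ hy₁] at this
      norm_num at this
  have hχval : ∀ y ∈ nonOne P, (χ : G → ℂ) (y : G) = -1 := fun y hy => by
    rw [← hval y hy, ← hsum' (y : G), hψ0 y hy, add_zero]
  refine ⟨χ, hor, ?_, hχval⟩
  obtain ⟨n, hn⟩ := H.sum_char ψ
  rw [Finset.sum_eq_zero hψ0, add_zero] at hn
  obtain ⟨m, hm⟩ := H.sum_char χ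
  rw [Finset.sum_congr rfl hχval, Finset.sum_const, nsmul_eq_mul, H.card_nonOne] at hm
  have h1 := hsum' 1
  rw [hdeg, hn] at h1
  have hmn : ((m + n : ℕ) : ℂ) * p = ((1 : ℕ) : ℂ) * p := by
    push_cast
    linear_combination h1 - hm
  have hmn' : m + n = 1 := by
    have := mul_right_cancel₀ (Nat.cast_ne_zero.mpr (Fact.out : p.Prime).ne_zero) hmn
    exact_mod_cast this
  have hn0 : n ≠ 0 := by
    rintro rfl
    exact irr_one_ne_zero ψ.2 (by rw [hn]; simp)
  have hm0 : m = 0 := by omega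
  rw [hm0, Nat.cast_zero, mul_zero] at hm
  linear_combination hm

end Cfsg.Agent.DegTwoP
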